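import Cfsg.Agent.H681.Der.Common
import Cfsg.Agent.H390.PslSpec
import Cfsg.Agent.H394.SqPsl2
import Cfsg.Agent.H183.OutPSL
import Cfsg.Agent.H999.HgSplitA
import Cfsg.Agent.S0799
import Cfsg.Agent.SignalizersComponents.SLQuasisimple

/-!
# `L₂(7)` (S3502-G78)
-/

set_option autoImplicit false

namespace Cfsg.Agent.H681.Der.Psl7

open Subgroup Cfsg.Agent.H439.Der Cfsg.Agent.H938.Sax Cfsg.Agent.H681.Der

variable {F : Type} [Field F] [Fintype F]

local notation "T2" => Matrix.ProjectiveSpecialLinearGroup (Fin 2) F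

instance finite_psl : Finite T2 := Quotient.finite _

theorem charP (hF : Fintype.card F = 7) : CharP F 7 :=
  have : Fact (Nat.Prime 7) := ⟨by norm_num⟩
  charP_of_card_eq_prime hF

theorem card_T (hF : Fintype.card F = 7) : Nat.card T2 = 168 := by
  have h1 := Cfsg.Agent.H394.SqPsl2.card_psl (F := F)
  rw [hF] at h1
  norm_num at h1
  omega

theorem spec (hF : Fintype.card F = 7) (k : ℕ) : (∃ g : T2, orderOf g = k) ↔ (k ∣ 7 ∨ k ∣ 3 ∨ k ∣ 4) := by
  have := charP hF
  have h7 : Fact (Nat.Prime 7) := ⟨by norm_num⟩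
  have h1 := Cfsg.Agent.H390.PslSpec.range_orderOf (F := F) (p := 7) (by omega)
  have h2 : k ∈ Set.range (orderOf : T2 → ℕ) ↔ k ∈ Cfsg.Agent.H390.PslSpec.specSet 7 (Fintype.card F) := by
    rw [h1]
  rw [hF] at h2
  have h3 : Cfsg.Agent.H390.PslSpec.dd 7 = 2 := by decide
  simpa [Cfsg.Agent.H390.PslSpec.specSet, h3] using h2

theorem simple (hF : Fintype.card F = 7) : IsSimpleGroup T2 :=
  Matrix.ProjectiveSpecialLinearGroup.rank_two_simple'
    (SignalizersComponents.SLQuasisimple.exists_sq_ne_one (by rw [Nat.card_eq_fintype_card, hF]; omega))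

/-- the Borel subgroup -/
theorem card_B (hF : Fintype.card F = 7) (P : Sylow 7 T2) :
    Nat.card (normalizer ((P : Subgroup T2) : Set T2)) = 21 := by
  have := charP hF
  have h7 : Fact (Nat.Prime 7) := ⟨by norm_num⟩
  have h1 := Cfsg.Agent.H436.TT.index_normalizer (F := F) 7 P
  have h2 := (normalizer ((P : Subgroup T2) : Set T2)).card_mul_index
  rw [h1, hF, card_T hF] at h2
  omega

set_option maxRecDepth 100000 in
theorem A4_no4 : ∀ g : Equiv.Perm (Fin 4), Equiv.Perm.sign g = 1 → g ^ 2 = 1 ∨ g ^ 3 = 1 := by decide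

/-- `S₄` has no normal subgroup of order `8` -/
theorem S4_no8 {M : Type*} [Group M] (e : M ≃* Equiv.Perm (Fin 4)) (K : Subgroup M) (hK : Nat.card K = 8)
    (hn : ∀ n : M, ∀ k ∈ K, n⁻¹ * k * n ∈ K) : False := by
  have hM : Nat.card M = 24 := by
    rw [Nat.card_congr e.toEquiv, Nat.card_perm, Nat.card_eq_fintype_card, Fintype.card_fin]; rfl
  have hnor : K.Normal := ⟨fun k hk n => by
    have := hn n⁻¹ k hk
    rwa [inv_inv] at this⟩
  have h1 : Nat.card (M ⧸ K) = 3 := by
    have h2 := K.index_mul_card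
    rw [hK, hM] at h2
    have : K.index = 3 := by omega
    exact this
  have h2 : ∀ x : Equiv.Perm (Fin 4), Equiv.Perm.IsSwap x → e.symm x ∈ K := by
    intro x hx
    have h3 : x ^ 2 = 1 := by
      obtain ⟨i, j, -, rfl⟩ := hx
      rw [sq, Equiv.swap_mul_self]
    have h4 : ((e.symm x : M) : M ⧸ K) ^ 2 = 1 := by
      rw [← QuotientGroup.mk_pow, ← map_pow, h3, map_one, QuotientGroup.mk_one]
    have h5 : ((e.symm x : M) : M ⧸ K) ^ 3 = 1 := by
      rw [← h1]; exact pow_card_eq_one'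
    have h6 : ((e.symm x : M) : M ⧸ K) = 1 := by
      have h7 : ((e.symm x : M) : M ⧸ K) ^ 3 = ((e.symm x : M) : M ⧸ K) ^ 2 * (e.symm x : M) := by
        rw [pow_succ]
      rw [h5, h4, one_mul] at h7
      exact h7.symm
    exact (QuotientGroup.eq_one_iff _).1 h6
  have h3 : K.map e.toMonoidHom = ⊤ := by
    rw [eq_top_iff, ← Equiv.Perm.closure_isSwap, closure_le]
    intro x hx
    exact ⟨e.symm x, h2 x hx, by simp⟩
  have h4 : K = ⊤ := by
    rw [eq_top_iff]
    intro m _
    have h5 : e m ∈ K.map e.toMonoidHom := h3 ▸ mem_top _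
    obtain ⟨k, hk, hkm⟩ := h5
    have : k = m := e.injective hkm
    exact this ▸ hk
  rw [h4, Subgroup.card_top, hM] at hK
  omega

/-- Dickson's theorem, numerically, for proper subgroups -/
theorem dickson (hF : Fintype.card F = 7) (M : Subgroup T2) (hM : M ≠ ⊤) :
    Nat.card M ∣ 21 ∨ Nat.card M ∣ 8 ∨ Nat.card M ∣ 6 ∨ (Nat.card M = 12 ∧ ∀ m ∈ M, orderOf m ≠ 4) ∨
    (Nat.card M = 24 ∧ ∀ K : Subgroup T2, K ≤ M → Nat.card K = 8 → ¬ ∀ n ∈ M, ∀ k ∈ K, n⁻¹ * k * n ∈ K) := by
  have := charP hF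
  have h7 : Fact (Nat.Prime 7) := ⟨by norm_num⟩
  have hT := card_T hF
  have hdick := Cfsg.Agent.S0799.result hF 7 M
  rw [show Nat.gcd 2 (7 - 1) = 2 by norm_num, show (7 + 1) / 2 = 4 by norm_num, show (7 - 1) / 2 = 3 by norm_num] at hdick
  rcases hdick with ⟨k, hk, hk'⟩ | ⟨P, K, hK, ⟨e⟩⟩ | ⟨⟨e⟩⟩ | ⟨⟨e⟩⟩ | ⟨⟨e⟩⟩ | ⟨K, iK, iK', m, hm, he⟩
  · have h1 : Nat.card M ∣ 2 * k := by
      rcases hk' with ⟨-, h⟩ | ⟨⟨e⟩⟩
      · rw [h]; exact Dvd.intro_left 2 rfl
      · rw [Nat.card_congr e.toEquiv, DihedralGroup.nat_card]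
    rcases hk with hk | hk
    · exact Or.inr (Or.inl (h1.trans (Nat.mul_dvd_mul_left 2 hk)))
    · exact Or.inr (Or.inr (Or.inl (h1.trans (Nat.mul_dvd_mul_left 2 hk))))
  · left
    rw [Nat.card_congr e.toEquiv, ← card_B hF P]
    exact Subgroup.card_dvd_of_le hK
  · right; right; right; left
    refine ⟨?_, fun m hm h4 => ?_⟩
    · rw [Nat.card_congr e.toEquiv, nat_card_alternatingGroup, Nat.card_eq_fintype_card, Fintype.card_fin]
      decide
    · have h1 : orderOf (e ⟨m, hm⟩) = 4 := by rw [MulEquiv.orderOf_eq, Subgroup.orderOf_mk, h4]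
      rw [← Subgroup.orderOf_coe] at h1
      rcases A4_no4 _ (Equiv.Perm.mem_alternatingGroup.1 (e ⟨m, hm⟩).2) with h2 | h2
      · have := orderOf_dvd_of_pow_eq_one h2
        rw [h1] at this
        omega
      · have := orderOf_dvd_of_pow_eq_one h2
        rw [h1] at this
        omega
  · right; right; right; right
    refine ⟨?_, fun K hKM hK hn => ?_⟩
    · rw [Nat.card_congr e.toEquiv, Nat.card_perm, Nat.card_eq_fintype_card, Fintype.card_fin]; rfl
    · refine S4_no8 e (K.subgroupOf M) ?_ fun n k hk => ?_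
      · rw [← hK]; exact Nat.card_congr (Subgroup.subgroupOfEquivOfLe hKM).toEquiv
      · rw [mem_subgroupOf] at hk ⊢
        exact hn n n.2 k hk
  · exfalso
    have h1 : Nat.card M = 60 := by
      rw [Nat.card_congr e.toEquiv, nat_card_alternatingGroup, Nat.card_eq_fintype_card, Fintype.card_fin]
      decide
    have h2 := M.card_subgroup_dvd_card
    rw [h1, hT] at h2
    omega
  · exfalso
    have hK1 : 1 < Fintype.card K := Fintype.one_lt_card
    have hm0 : m ≠ 0 := by rintro rfl; rw [pow_zero] at hm; omega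
    have hK7 : Fintype.card K = 7 := by
      have h1 : Fintype.card K ∣ 7 := by
        have := dvd_pow_self (Fintype.card K) hm0
        rwa [hm] at this
      rcases (Nat.dvd_prime (by norm_num)).1 h1 with h2 | h2
      · omega
      · exact h2
    have h2 : 168 ≤ Nat.card M := by
      rcases he with ⟨⟨e⟩⟩ | ⟨⟨e⟩⟩
      · rw [Nat.card_congr e.toEquiv]
        have h1 := Cfsg.Agent.H394.SqPsl2.card_psl (F := K)
        rw [hK7] at h1
        norm_num at h1
        omega
      · rw [Nat.card_congr e.toEquiv]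
        have h1 := Cfsg.Agent.H394.SqPsl2.card_pgl (F := K)
        rw [hK7] at h1
        norm_num at h1
        omega
    exact hM (Subgroup.eq_top_of_le_card M (by rw [hT]; exact h2))

theorem card_pos' (M : Subgroup T2) : 0 < Nat.card M := Nat.card_pos

/-- the list of orders -/
theorem card_mem (hF : Fintype.card F = 7) (M : Subgroup T2) (hM : M ≠ ⊤) :
    Nat.card M ∈ ({1, 2, 3, 4, 6, 7, 8, 12, 21, 24} : Finset ℕ) := by
  have h21 : ∀ k : ℕ, k ∣ 21 → k ∈ ({1, 2, 3, 4, 6, 7, 8, 12, 21, 24} : Finset ℕ) := fun k hk => by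
    have h1 := Nat.le_of_dvd (by norm_num) hk
    interval_cases k <;> first | decide | (exfalso; omega)
  have h8 : ∀ k : ℕ, k ∣ 8 → k ∈ ({1, 2, 3, 4, 6, 7, 8, 12, 21, 24} : Finset ℕ) := fun k hk => by
    have h1 := Nat.le_of_dvd (by norm_num) hk
    interval_cases k <;> first | decide | (exfalso; omega)
  have h6 : ∀ k : ℕ, k ∣ 6 → k ∈ ({1, 2, 3, 4, 6, 7, 8, 12, 21, 24} : Finset ℕ) := fun k hk => by
    have h1 := Nat.le_of_dvd (by norm_num) hk
    interval_cases k <;> first | decide | (exfalso; omega)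
  rcases dickson hF M hM with h | h | h | ⟨h, -⟩ | ⟨h, -⟩
  · exact h21 _ h
  · exact h8 _ h
  · exact h6 _ h
  · rw [h]; decide
  · rw [h]; decide

/-- elements of order `7` are not conjugate to their inverses -/
theorem not_conj_inv (hF : Fintype.card F = 7) {x : T2} (hx : orderOf x = 7) (g : T2) : g * x * g⁻¹ ≠ x⁻¹ := by
  intro h
  have hs := simple hF
  have hinv : x⁻¹ ≠ x := by
    intro h1
    have h2 : x ^ 2 = 1 := by
      rw [sq]
      nth_rw 1 [← h1]
      exact inv_mul_cancel x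
    have := orderOf_dvd_of_pow_eq_one h2
    rw [hx] at this
    omega
  have hcom : ∀ k : ℕ, g ^ (2 * k) * x * (g ^ (2 * k))⁻¹ = x := by
    intro k
    induction k with
    | zero => simp
    | succ k ih =>
      rw [show 2 * (k + 1) = 2 + 2 * k by ring, pow_add]
      have h1 : g ^ 2 * x * (g ^ 2)⁻¹ = x := by
        have h2 : g ^ 2 * x * (g ^ 2)⁻¹ = g * (g * x * g⁻¹) * g⁻¹ := by
          rw [sq]; group
        rw [h2, h]
        have h3 : g * x⁻¹ * g⁻¹ = (g * x * g⁻¹)⁻¹ := by group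
        rw [h3, h, inv_inv]
      calc g ^ 2 * g ^ (2 * k) * x * (g ^ 2 * g ^ (2 * k))⁻¹ = g ^ 2 * (g ^ (2 * k) * x * (g ^ (2 * k))⁻¹) * (g ^ 2)⁻¹ := by
            group
        _ = x := by rw [ih, h1]
  have hg := (spec hF (orderOf g)).1 ⟨g, rfl⟩
  have hodd : ∀ j : ℕ, g ^ (2 * j + 1) = 1 → False := by
    intro j hj
    have h1 : g = (g ^ (2 * j))⁻¹ := by
      rw [pow_succ] at hj
      exact (inv_eq_of_mul_eq_one_right hj).symm
    have h2 : g⁻¹ * x * g = x := by
      have h3 := hcom j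
      rw [h1, inv_inv]
      exact h3
    have h3 : g * x * g⁻¹ = x := by
      nth_rw 1 [← h2]
      group
    exact hinv (h.symm.trans h3)
  have h4 : 2 ∣ orderOf g := by
    rcases hg with h1 | h1 | h1
    · exact (hodd 3 (orderOf_dvd_iff_pow_eq_one.1 h1)).elim
    · exact (hodd 1 (orderOf_dvd_iff_pow_eq_one.1 h1)).elim
    · obtain ⟨a, ha, ha'⟩ := (Nat.dvd_prime_pow Nat.prime_two).1 (show orderOf g ∣ 2 ^ 2 by rwa [show 2 ^ 2 = 4 by norm_num])
      rcases Nat.eq_zero_or_pos a with rfl | ha0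
      · exfalso
        rw [pow_zero, orderOf_eq_one_iff] at ha'
        exact hodd 0 (by rw [ha', one_pow])
      · rw [ha']; exact dvd_pow_self 2 ha0.ne'
  set N := normalizer (zpowers x : Set T2) with hN
  have hgN : g ∈ N := by
    refine mem_normalizer_of_pow (k := 6) (by rw [hx]; norm_num) ?_
    rw [h, inv_eq_of_mul_eq_one_right]
    rw [← pow_succ']
    exact orderOf_dvd_iff_pow_eq_one.1 (by rw [hx])
  have hxN : x ∈ N := by
    rw [hN]
    exact le_normalizer (mem_zpowers x)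
  have hNt : N ≠ ⊤ := by
    intro htop
    have hnor : (zpowers x).Normal := normalizer_eq_top_iff.1 htop
    rcases hnor.eq_bot_or_eq_top with h1 | h1
    · rw [zpowers_eq_bot] at h1
      rw [h1, orderOf_one] at hx
      omega
    · have h2 : Nat.card T2 = 7 := by
        rw [← Subgroup.card_top (G := T2), ← h1, Nat.card_zpowers, hx]
      rw [card_T hF] at h2
      omega
  have hc := card_mem hF N hNt
  have h7 : 7 ∣ Nat.card N := by
    rw [← hx, ← Subgroup.orderOf_mk x hxN]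
    exact orderOf_dvd_natCard _
  have h2 : 2 ∣ Nat.card N := by
    refine h4.trans ?_
    rw [← Subgroup.orderOf_mk g hgN]
    exact orderOf_dvd_natCard _
  generalize Nat.card N = c at hc h7 h2
  fin_cases hc <;> omega

theorem card_out (hF : Fintype.card F = 7) : Nat.card (Cfsg.Out T2) = 2 := by
  have := charP hF
  have h7 : Fact (Nat.Prime 7) := ⟨by norm_num⟩
  obtain ⟨φ, hs, -, hc⟩ := Cfsg.Agent.H183.OutPSL.out_two (F := F) (p := 7) (f := 1) le_rfl (by rw [hF]; norm_num) (by norm_num)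
  have h1 := φ.ker.index_mul_card
  rw [Subgroup.index_ker, MonoidHom.range_eq_top.2 hs, Subgroup.card_top] at h1
  rw [← h1, hc]
  have h2 : Nat.card (Multiplicative (ZMod 1)) = 1 := by
    rw [Nat.card_congr Multiplicative.toAdd, Nat.card_zmod]
  rw [h2]
  norm_num

theorem not_comm (hF : Fintype.card F = 7) : ∃ a b : T2, a * b ≠ b * a := by
  by_contra hcon
  push Not at hcon
  obtain ⟨a, ha⟩ := (spec hF 7).2 (by norm_num)
  obtain ⟨b, hb⟩ := (spec hF 4).2 (by norm_num)
  have h1 : orderOf (a * b) = 28 := by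
    have h0 : Commute a b := hcon a b
    rw [h0.orderOf_mul_eq_mul_orderOf_of_coprime (by rw [ha, hb]; norm_num), ha, hb]
  have h2 := (spec hF 28).1 ⟨_, h1⟩
  omega

theorem cos (hF : Fintype.card F = 7) : Cos T2 := by
  have := simple hF
  have h7 : Fact (Nat.Prime 7) := ⟨by norm_num⟩
  exact Cos.of_sq (center_eq_bot (not_comm hF)) (not_comm hF) fun φ => Cfsg.Agent.H999.HgSplitA.psl_sq hF φ

theorem miss (hF : Fintype.card F = 7) (M : Subgroup T2) (hM : M ≠ ⊤) : Miss T2 M := by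
  have hc := card_mem hF M hM
  obtain ⟨x, hx⟩ := (spec hF 7).2 (by norm_num)
  obtain ⟨y, hy⟩ := (spec hF 2).2 (by norm_num)
  by_cases h7 : 7 ∣ Nat.card M
  · refine Miss.of_dvd (v := 2) (x := y) ?_ (by rw [hy])
    generalize Nat.card M = c at hc h7
    fin_cases hc <;> omega
  · exact Miss.of_dvd (v := 7) (x := x) h7 (by rw [hx])

theorem fin3_aux (hF : Fintype.card F = 7) (R : Subgroup T2) {z : T2} {c : ℕ} (h7 : ¬ 7 ∣ Nat.card R)
    (hz : orderOf z = c) (hc : ∀ m ∈ R, orderOf m ≠ c) (h7c : ¬ 7 ∣ c) : ThreeT T2 R ∧ Two T2 R := by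
  obtain ⟨x, hx⟩ := (spec hF 7).2 (by norm_num)
  exact ⟨ThreeT.of_prime h7 (x := x) (y := x⁻¹) (by rw [hx]) (by rw [orderOf_inv, hx]) (not_conj_inv hF hx) hz hc h7c,
    Two.of_prime h7 (x := x) (by rw [hx]) hz hc h7c⟩

theorem noOne (hF : Fintype.card F = 7) (R : Subgroup T2) (h8 : ¬ 8 ∣ Nat.card R) : NoOne T2 R := by
  refine NoOne.of_prime Nat.prime_two (card_out hF) fun h => h8 ?_
  have h1 := R.index_mul_card
  rw [card_T hF] at h1
  have h2 : R.index % 2 = 1 := h
  have h3 : Nat.Coprime (2 ^ 3) R.index := by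
    rw [Nat.coprime_pow_left_iff (by norm_num), Nat.coprime_two_left, Nat.odd_iff]
    exact h2
  have h4 : 8 ∣ R.index * Nat.card R := by rw [h1]; norm_num
  exact h3.dvd_of_dvd_mul_left h4

theorem fin3 (hF : Fintype.card F = 7) (R : Subgroup T2) (hR : R ≠ ⊤) (hRc : ¬ IsCoatom R) : Fin3 T2 R := by
  obtain ⟨M, hM, hRM⟩ := (eq_top_or_exists_le_coatom R).resolve_left hR
  have hlt : R < M := lt_of_le_of_ne hRM fun h => hRc (h ▸ hM)
  have hdvd : Nat.card R ∣ Nat.card M := Subgroup.card_dvd_of_le hRM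
  have hne : Nat.card R ≠ Nat.card M := fun h => hlt.ne (Subgroup.eq_of_le_of_card_ge hRM h.ge)
  have hMc := card_mem hF M hM.1
  have hRcm := card_mem hF R hR
  obtain ⟨x2, hx2⟩ := (spec hF 2).2 (by norm_num)
  obtain ⟨x3, hx3⟩ := (spec hF 3).2 (by norm_num)
  obtain ⟨x4, hx4⟩ := (spec hF 4).2 (by norm_num)
  obtain ⟨x7, hx7⟩ := (spec hF 7).2 (by norm_num)
  by_cases h7 : 7 ∣ Nat.card R
  · have hR7 : Nat.card R = 7 := by
      generalize Nat.card R = c at *
      generalize Nat.card M = d at *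
      fin_cases hRcm <;> first | omega | (fin_cases hMc <;> omega)
    exact Or.inl (Three.of_not_dvd3 (a := 2) (b := 3) (c := 4) (by norm_num) (by norm_num) (by norm_num) ⟨x2, hx2⟩
      ⟨x3, hx3⟩ ⟨x4, hx4⟩ (by rw [hR7]; norm_num) (by rw [hR7]; norm_num) (by rw [hR7]; norm_num))
  right
  have hR24 : Nat.card R ≠ 24 := by
    generalize Nat.card R = c at *
    generalize Nat.card M = d at *
    rintro rfl
    fin_cases hMc <;> omega
  by_cases h3 : 3 ∣ Nat.card R
  · -- order 3, 6, 12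
    have h8 : ¬ 8 ∣ Nat.card R := by
      generalize Nat.card R = c at *
      fin_cases hRcm <;> omega
    have h4 : ∀ m ∈ R, orderOf m ≠ 4 := by
      rcases dickson hF R hR with h | h | h | ⟨-, h⟩ | ⟨h, -⟩
      · exact orderOf_ne_of_not_dvd fun h5 => by have := h5.trans h; omega
      · exact absurd (h3.trans h) (by norm_num)
      · exact orderOf_ne_of_not_dvd fun h5 => by have := h5.trans h; omega
      · exact h
      · exact absurd h hR24
    obtain ⟨a, b⟩ := fin3_aux hF R h7 hx4 h4 (by norm_num)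
    exact ⟨a, b, Or.inl (noOne hF R h8)⟩
  · obtain ⟨a, b⟩ := fin3_aux hF R h7 hx3 (orderOf_ne_of_not_dvd h3) (by norm_num)
    refine ⟨a, b, ?_⟩
    by_cases h8 : 8 ∣ Nat.card R
    · right
      have hR8 : Nat.card R = 8 := by
        generalize Nat.card R = c at *
        fin_cases hRcm <;> omega
      refine OutBadN.of_three fun N hRN hN => ?_
      have hNc := card_mem hF N hN.ne
      have hd : Nat.card R ∣ Nat.card N := Subgroup.card_dvd_of_le hRN.le
      have hne' : Nat.card R ≠ Nat.card N := fun h => hRN.ne (Subgroup.eq_of_le_of_card_ge hRN.le h.ge)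
      have hN24 : Nat.card N = 24 := by
        rw [hR8] at hd hne'
        generalize Nat.card N = c at *
        fin_cases hNc <;> omega
      refine ⟨by rw [hN24, hR8], ?_⟩
      rcases dickson hF N hN.ne with h | h | h | ⟨h, -⟩ | ⟨-, h⟩
      · rw [hN24] at h; norm_num at h
      · rw [hN24] at h; norm_num at h
      · rw [hN24] at h; norm_num at h
      · rw [hN24] at h; norm_num at h
      · exact h R hRN.le hR8
    · exact Or.inl (noOne hF R h8)

/-- **S3502-G78**, first part -/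
theorem rowW_psl27 (hF : Fintype.card F = 7) : RowW T2 :=
  ⟨Or.inr ⟨cos hF, fun M hM => miss hF M hM.1⟩, fun R hR hR' => fin3 hF R hR hR'⟩

end Cfsg.Agent.H681.Der.Psl7
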