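import Cfsg.Agent.H681.Der.Common
import Cfsg.Agent.H390.PslSpec
import Cfsg.Agent.H394.SqPsl2
import Cfsg.Agent.H183.OutPSL
import Cfsg.Agent.H999.HgSplitA
import Cfsg.Agent.S0799
import Cfsg.Agent.SignalizersComponents.SLQuasisimple
import Cfsg.Agent.H20.FrobTools
import Cfsg.Agent.Lib.FieldAutCard

/-!
# `L₂(8)` (S3502-G78)
-/

set_option autoImplicit false

namespace Cfsg.Agent.H681.Der.Psl8

open Subgroup Cfsg.Agent.H439.Der Cfsg.Agent.H938.Sax Cfsg.Agent.H681.Der

variable {F : Type} [Field F] [Fintype F]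

local notation "T2" => Matrix.ProjectiveSpecialLinearGroup (Fin 2) F

instance finite_psl : Finite T2 := Quotient.finite _

theorem charP (hF : Fintype.card F = 8) : CharP F 2 := by
  have : Fact (Nat.Prime 2) := ⟨by norm_num⟩
  exact charP_of_card_eq_prime_pow (f := 3) (by rw [hF]; norm_num)

theorem card_T (hF : Fintype.card F = 8) : Nat.card T2 = 504 := by
  have h1 := Cfsg.Agent.H394.SqPsl2.card_psl (F := F)
  rw [hF] at h1
  norm_num at h1
  omega

theorem spec (hF : Fintype.card F = 8) (k : ℕ) : (∃ g : T2, orderOf g = k) ↔ (k ∣ 2 ∨ k ∣ 7 ∨ k ∣ 9) := by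
  have := charP hF
  have h7 : Fact (Nat.Prime 2) := ⟨by norm_num⟩
  have h1 := Cfsg.Agent.H390.PslSpec.range_orderOf (F := F) (p := 2) (by omega)
  have h2 : k ∈ Set.range (orderOf : T2 → ℕ) ↔ k ∈ Cfsg.Agent.H390.PslSpec.specSet 2 (Fintype.card F) := by
    rw [h1]
  rw [hF] at h2
  have h3 : Cfsg.Agent.H390.PslSpec.dd 8 = 1 := by decide
  simpa [Cfsg.Agent.H390.PslSpec.specSet, h3] using h2

theorem simple (hF : Fintype.card F = 8) : IsSimpleGroup T2 :=
  Matrix.ProjectiveSpecialLinearGroup.rank_two_simple'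
    (SignalizersComponents.SLQuasisimple.exists_sq_ne_one (by rw [Nat.card_eq_fintype_card, hF]; omega))

/-- the Borel subgroup -/
theorem card_B (hF : Fintype.card F = 8) (P : Sylow 2 T2) :
    Nat.card (normalizer ((P : Subgroup T2) : Set T2)) = 56 := by
  have := charP hF
  have h7 : Fact (Nat.Prime 2) := ⟨by norm_num⟩
  have h1 := Cfsg.Agent.H436.TT.index_normalizer (F := F) 2 P
  have h2 := (normalizer ((P : Subgroup T2) : Set T2)).card_mul_index
  rw [h1, hF, card_T hF] at h2
  omega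

set_option maxRecDepth 100000 in
theorem A4_orders : ∀ g : Equiv.Perm (Fin 4), Equiv.Perm.sign g = 1 → g ^ 2 = 1 ∨ g ^ 3 = 1 := by decide

/-- Dickson's theorem, numerically, for proper subgroups -/
theorem dickson (hF : Fintype.card F = 8) (M : Subgroup T2) (hM : M ≠ ⊤) :
    Nat.card M ∣ 18 ∨ Nat.card M ∣ 14 ∨ Nat.card M ∣ 56 ∨ (Nat.card M = 12) := by
  have := charP hF
  have h7 : Fact (Nat.Prime 2) := ⟨by norm_num⟩
  have hT := card_T hF
  have hdick := Cfsg.Agent.S0799.result hF 2 M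
  rw [show Nat.gcd 2 (8 - 1) = 1 by norm_num, show (8 + 1) / 1 = 9 by norm_num, show (8 - 1) / 1 = 7 by norm_num] at hdick
  rcases hdick with ⟨k, hk, hk'⟩ | ⟨P, K, hK, ⟨e⟩⟩ | ⟨⟨e⟩⟩ | ⟨⟨e⟩⟩ | ⟨⟨e⟩⟩ | ⟨K, iK, iK', m, hm, he⟩
  · have h1 : Nat.card M ∣ 2 * k := by
      rcases hk' with ⟨-, h⟩ | ⟨⟨e⟩⟩
      · rw [h]; exact Dvd.intro_left 2 rfl
      · rw [Nat.card_congr e.toEquiv, DihedralGroup.nat_card]
    rcases hk with hk | hk
    · exact Or.inl (h1.trans (Nat.mul_dvd_mul_left 2 hk))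
    · exact Or.inr (Or.inl (h1.trans (Nat.mul_dvd_mul_left 2 hk)))
  · right; right; left
    rw [Nat.card_congr e.toEquiv, ← card_B hF P]
    exact Subgroup.card_dvd_of_le hK
  · right; right; right
    rw [Nat.card_congr e.toEquiv, nat_card_alternatingGroup, Nat.card_eq_fintype_card, Fintype.card_fin]
    decide
  · exfalso
    have h4 : orderOf (finRotate 4) = 4 := by
      have h5 : ¬ (finRotate 4) ^ 2 ^ 1 = 1 := by decide
      have h6 : (finRotate 4) ^ 2 ^ (1 + 1) = 1 := by decide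
      have : Fact (Nat.Prime 2) := ⟨by norm_num⟩
      have h7 := orderOf_eq_prime_pow h5 h6
      rw [h7]; norm_num
    have h5 : orderOf ((e.symm (finRotate 4) : M) : T2) = 4 := by
      rw [Subgroup.orderOf_coe, MulEquiv.orderOf_eq, h4]
    have := (spec hF 4).1 ⟨_, h5⟩
    omega
  · exfalso
    have h1 : Nat.card M = 60 := by
      rw [Nat.card_congr e.toEquiv, nat_card_alternatingGroup, Nat.card_eq_fintype_card, Fintype.card_fin]
      decide
    have h2 := M.card_subgroup_dvd_card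
    rw [h1, hT] at h2
    omega
  · have hK1 : 1 < Fintype.card K := Fintype.one_lt_card
    have hm0 : m ≠ 0 := by rintro rfl; rw [pow_zero] at hm; omega
    have hK8 : Fintype.card K = 2 ∨ Fintype.card K = 8 := by
      have h1 : Fintype.card K ∣ 2 ^ 3 := by
        have := dvd_pow_self (Fintype.card K) hm0
        rwa [hm] at this
      obtain ⟨a, ha, ha'⟩ := (Nat.dvd_prime_pow Nat.prime_two).1 h1
      interval_cases a
      · rw [ha'] at hK1; norm_num at hK1
      · exact Or.inl ha'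
      · exfalso
        rw [ha', ← pow_mul, show 8 = 2 ^ 3 by norm_num] at hm
        have := Nat.pow_right_injective le_rfl hm
        omega
      · exact Or.inr ha'
    rcases hK8 with hK8 | hK8
    · left
      have h1 : Nat.card M = 6 := by
        rcases he with ⟨⟨e⟩⟩ | ⟨⟨e⟩⟩
        · rw [Nat.card_congr e.toEquiv]
          have h1 := Cfsg.Agent.H394.SqPsl2.card_psl (F := K)
          rw [hK8] at h1
          norm_num at h1
          omega
        · rw [Nat.card_congr e.toEquiv]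
          have h1 := Cfsg.Agent.H394.SqPsl2.card_pgl (F := K)
          rw [hK8] at h1
          norm_num at h1
          omega
      rw [h1]; norm_num
    · exfalso
      have h2 : 504 ≤ Nat.card M := by
        rcases he with ⟨⟨e⟩⟩ | ⟨⟨e⟩⟩
        · rw [Nat.card_congr e.toEquiv]
          have h1 := Cfsg.Agent.H394.SqPsl2.card_psl (F := K)
          rw [hK8] at h1
          norm_num at h1
          omega
        · rw [Nat.card_congr e.toEquiv]
          have h1 := Cfsg.Agent.H394.SqPsl2.card_pgl (F := K)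
          rw [hK8] at h1
          norm_num at h1
          omega
      exact hM (Subgroup.eq_top_of_le_card M (by rw [hT]; exact h2))

/-- the list of orders -/
theorem card_mem (hF : Fintype.card F = 8) (M : Subgroup T2) (hM : M ≠ ⊤) :
    Nat.card M ∈ ({1, 2, 3, 4, 6, 7, 8, 9, 12, 14, 18, 28, 56} : Finset ℕ) := by
  have h21 : ∀ k : ℕ, k ∣ 18 → k ∈ ({1, 2, 3, 4, 6, 7, 8, 9, 12, 14, 18, 28, 56} : Finset ℕ) := fun k hk => by
    have h1 := Nat.le_of_dvd (by norm_num) hk
    interval_cases k <;> first | decide | (exfalso; omega)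
  have h8 : ∀ k : ℕ, k ∣ 14 → k ∈ ({1, 2, 3, 4, 6, 7, 8, 9, 12, 14, 18, 28, 56} : Finset ℕ) := fun k hk => by
    have h1 := Nat.le_of_dvd (by norm_num) hk
    interval_cases k <;> first | decide | (exfalso; omega)
  have h6 : ∀ k : ℕ, k ∣ 56 → k ∈ ({1, 2, 3, 4, 6, 7, 8, 9, 12, 14, 18, 28, 56} : Finset ℕ) := fun k hk => by
    have h1 := Nat.le_of_dvd (by norm_num) hk
    interval_cases k <;> first | decide | (exfalso; omega)
  rcases dickson hF M hM with h | h | h | h
  · exact h21 _ h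
  · exact h8 _ h
  · exact h6 _ h
  · rw [h]; decide

/-- elements of order `7` are self-centralising -/
theorem card_cent (hF : Fintype.card F = 8) {X : Type} [Group X] [Finite X] (f : X →* T2) (hf : Function.Injective f)
    {x : X} (hx : orderOf x = 7) : Nat.card (centralizer ({x} : Set X)) = 7 := by
  have hd : Nat.card X ∣ 504 := by
    rw [← card_T hF]
    exact Subgroup.card_dvd_of_injective f hf
  have h7 : Fact (Nat.Prime 7) := ⟨by norm_num⟩
  have hxC : x ∈ centralizer ({x} : Set X) := by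
    rw [mem_centralizer_singleton_iff]
  have h1 : 7 ∣ Nat.card (centralizer ({x} : Set X)) := by
    rw [← hx, ← Subgroup.orderOf_mk x hxC]
    exact orderOf_dvd_natCard _
  have h2 : ∀ r : ℕ, r.Prime → r ∣ Nat.card (centralizer ({x} : Set X)) → r = 7 := by
    intro r hr hrd
    by_contra hne
    have := Fact.mk hr
    obtain ⟨y, hy⟩ := exists_prime_orderOf_dvd_card' r hrd
    have hc : Commute x (y : X) := by
      have := mem_centralizer_singleton_iff.1 y.2
      exact this.symm
    have hy' : orderOf (y : X) = r := by rw [Subgroup.orderOf_coe, hy]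
    have h3 : orderOf (f (x * y)) = 7 * r := by
      rw [orderOf_injective f hf, hc.orderOf_mul_eq_mul_orderOf_of_coprime, hx, hy']
      rw [hx, hy']
      exact (Nat.coprime_primes (by norm_num) hr).2 (Ne.symm hne)
    have h4 := (spec hF _).1 ⟨_, h3⟩
    have h5 := hr.two_le
    rcases h4 with h4 | h4 | h4
    · have := Nat.le_of_dvd (by norm_num) h4; omega
    · have := Nat.le_of_dvd (by norm_num) h4; omega
    · have := Nat.le_of_dvd (by norm_num) h4; omega
  have h3 : Nat.card (centralizer ({x} : Set X)) ∣ 504 := (Subgroup.card_subgroup_dvd_card _).trans hd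
  have h4 : 0 < Nat.card (centralizer ({x} : Set X)) := Nat.card_pos
  generalize Nat.card (centralizer ({x} : Set X)) = c at *
  have h22 : ¬ 2 ∣ c := fun h => by have := h2 2 (by norm_num) h; omega
  have h33 : ¬ 3 ∣ c := fun h => by have := h2 3 (by norm_num) h; omega
  have h5 : Nat.Coprime c 72 := by
    rw [show 72 = 2 ^ 3 * 3 ^ 2 by norm_num]
    exact Nat.Coprime.mul_right (Nat.Coprime.pow_right _ ((Nat.Prime.coprime_iff_not_dvd Nat.prime_two).2 h22).symm)
      (Nat.Coprime.pow_right _ ((Nat.Prime.coprime_iff_not_dvd Nat.prime_three).2 h33).symm)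
  have h6 : c ∣ 7 := h5.dvd_of_dvd_mul_left (by rw [show 72 * 7 = 504 by norm_num]; exact h3)
  exact Nat.dvd_antisymm h6 h1

/-- the normaliser of a subgroup of order `7` -/
theorem exists_norm (hF : Fintype.card F = 8) (X : Subgroup T2) {x : X} (hx : orderOf x = 7) :
    ∃ w i : ℕ, w ∣ 6 ∧ i % 7 = 1 ∧ Nat.card (normalizer (zpowers x : Set X)) = 7 * w ∧ 7 * w * i = Nat.card X := by
  refine Cfsg.Agent.H20.FrobTools.exists_normalizer (by norm_num) hx (card_cent hF X.subtype X.subtype_injective hx)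
    fun h => ?_
  have h1 := h.trans X.card_subgroup_dvd_card
  rw [card_T hF] at h1
  omega

theorem no_28 (hF : Fintype.card F = 8) (X : Subgroup T2) (hX : Nat.card X = 28) : False := by
  have h7 : Fact (Nat.Prime 7) := ⟨by norm_num⟩
  obtain ⟨x, hx⟩ := exists_prime_orderOf_dvd_card' 7 (show 7 ∣ Nat.card X by rw [hX]; norm_num)
  obtain ⟨w, i, hw, hi, -, h⟩ := exists_norm hF X hx
  rw [hX] at h
  have h1 := Nat.le_of_dvd (by norm_num) hw
  interval_cases w <;> omega

theorem no_14_56 (hF : Fintype.card F = 8) (R X : Subgroup T2) (hRX : R ≤ X) (hR : Nat.card R = 14)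
    (hX : Nat.card X = 56) : False := by
  have h7 : Fact (Nat.Prime 7) := ⟨by norm_num⟩
  obtain ⟨x, hx⟩ := exists_prime_orderOf_dvd_card' 7 (show 7 ∣ Nat.card R by rw [hR]; norm_num)
  obtain ⟨w, i, hw, hi, h1, h⟩ := exists_norm hF R hx
  have hw2 : w = 2 := by
    rw [hR] at h
    have h1 := Nat.le_of_dvd (by norm_num) hw
    interval_cases w <;> omega
  subst hw2
  set y : X := inclusion hRX x with hy
  have hy7 : orderOf y = 7 := by
    rw [hy, orderOf_injective _ (inclusion_injective hRX), hx]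
  obtain ⟨w', i', hw', hi', h1', h'⟩ := exists_norm hF X hy7
  have hw1 : w' = 1 := by
    rw [hX] at h'
    have h1 := Nat.le_of_dvd (by norm_num) hw'
    interval_cases w' <;> omega
  subst hw1
  classical
  have h2 : (normalizer (zpowers x : Set R)).map (inclusion hRX) ≤ normalizer (zpowers y : Set X) := by
    rintro _ ⟨g, hg, rfl⟩
    have hgx : g * x * g⁻¹ ∈ zpowers x := (mem_normalizer_iff.1 hg x).1 (mem_zpowers x)
    obtain ⟨k, hk⟩ := mem_zpowers_iff_mem_range_orderOf.1 hgx |> Finset.mem_image.1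
    refine mem_normalizer_of_pow (k := k) (by rw [hy7]; norm_num) ?_
    have h3 := congrArg (inclusion hRX) hk.2
    rw [map_pow, map_mul, map_mul, map_inv] at h3
    exact h3.symm
  have h3 := Subgroup.card_dvd_of_le h2
  rw [h1', Nat.card_congr ((normalizer (zpowers x : Set R)).equivMapOfInjective _
    (inclusion_injective hRX)).toEquiv.symm, h1] at h3
  omega

theorem not_conj_sq (hF : Fintype.card F = 8) {x : T2} (hx : orderOf x = 7) (g : T2) : g * x * g⁻¹ ≠ x ^ 2 := by
  intro h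
  have hs := simple hF
  have hN : g ∈ normalizer (zpowers x : Set T2) := mem_normalizer_of_pow (by rw [hx]; norm_num) h
  have h1 := Cfsg.Agent.H20.FrobTools.card_normalizer_dvd (show Nat.Prime 7 by norm_num) hx
  rw [card_cent hF (MonoidHom.id T2) Function.injective_id hx] at h1
  set N := normalizer (zpowers x : Set T2) with hNdef
  have hxN : x ∈ N := by
    rw [hNdef]
    exact le_normalizer (mem_zpowers x)
  have hNt : N ≠ ⊤ := by
    intro htop
    rw [htop, Subgroup.card_top, card_T hF] at h1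
    have := Nat.le_of_dvd (by norm_num) h1
    omega
  have hc := card_mem hF N hNt
  have h7 : 7 ∣ Nat.card N := by
    rw [← hx, ← Subgroup.orderOf_mk x hxN]
    exact orderOf_dvd_natCard _
  have h2 : Nat.card N ∣ 14 := by
    generalize Nat.card N = c at hc h7 h1
    fin_cases hc <;> omega
  have h3 : orderOf g ∣ 14 := by
    rw [← Subgroup.orderOf_mk g hN]
    exact (_root_.orderOf_dvd_natCard _).trans h2
  have h4 : g ^ 14 = 1 := orderOf_dvd_iff_pow_eq_one.1 h3
  have hpow : ∀ k : ℕ, g ^ k * x * (g ^ k)⁻¹ = x ^ (2 ^ k) := by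
    intro k
    induction k with
    | zero => simp
    | succ k ih =>
      rw [pow_succ' g]
      calc g * g ^ k * x * (g * g ^ k)⁻¹ = g * (g ^ k * x * (g ^ k)⁻¹) * g⁻¹ := by group
        _ = x ^ 2 ^ (k + 1) := by rw [ih, ← conj_pow, h, ← pow_mul]; congr 1; ring
  have h5 := hpow 14
  rw [h4, one_mul, inv_one, mul_one] at h5
  have h6 : x ^ (2 ^ 14 - 1) = 1 := by
    have h7 : x ^ (2 ^ 14) = x ^ (2 ^ 14 - 1) * x := by
      rw [← pow_succ, show 2 ^ 14 - 1 + 1 = 2 ^ 14 by norm_num]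
    rw [h7] at h5
    exact (mul_eq_right.1 h5.symm)
  have h8 := orderOf_dvd_of_pow_eq_one h6
  rw [hx] at h8
  omega

theorem card_out (hF : Fintype.card F = 8) : Nat.card (Cfsg.Out T2) = 3 := by
  have := charP hF
  have h7 : Fact (Nat.Prime 2) := ⟨by norm_num⟩
  obtain ⟨φ, hs, -, hc⟩ := Cfsg.Agent.H183.OutPSL.out_two (F := F) (p := 2) (f := 3) (by norm_num) (by rw [hF]; norm_num)
    (by norm_num)
  have h1 := φ.ker.index_mul_card
  rw [Subgroup.index_ker, MonoidHom.range_eq_top.2 hs, Subgroup.card_top] at h1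
  rw [← h1, hc]
  have h2 : Nat.card (Multiplicative (ZMod 3)) = 3 := by
    rw [Nat.card_congr Multiplicative.toAdd, Nat.card_zmod]
  rw [h2]
  norm_num

theorem not_comm (hF : Fintype.card F = 8) : ∃ a b : T2, a * b ≠ b * a := by
  by_contra hcon
  push Not at hcon
  obtain ⟨a, ha⟩ := (spec hF 7).2 (by norm_num)
  obtain ⟨b, hb⟩ := (spec hF 2).2 (by norm_num)
  have h1 : orderOf (a * b) = 14 := by
    have h0 : Commute a b := hcon a b
    rw [h0.orderOf_mul_eq_mul_orderOf_of_coprime (by rw [ha, hb]; norm_num), ha, hb]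
  have h2 := (spec hF 14).1 ⟨_, h1⟩
  omega

open Cfsg.Agent.ClassicalGeometry.AutPSL.Root Cfsg.Agent.ClassicalGeometry.AutPSL.Auto
  Cfsg.Agent.ClassicalGeometry.AutPSL.Main in
theorem cos (hF : Fintype.card F = 8) : Cos T2 := by
  have := simple hF
  have := charP hF
  have h2 : Fact (Nat.Prime 2) := ⟨by norm_num⟩
  refine Cos.of_cube (center_eq_bot (not_comm hF)) fun φ => ?_
  obtain ⟨A, σ, rfl⟩ := surj_two 2 φ
  -- the determinant is a square
  set δ : F := (A : Matrix (Fin 2) (Fin 2) F).det with hδ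
  have hδ0 : δ ≠ 0 := A.det.ne_zero
  obtain ⟨s, hs⟩ : ∃ s : F, s * s = δ := by
    have := (FiniteField.isSquare_of_char_two (ringChar.eq F 2).symm.symm δ)
    obtain ⟨s, hs⟩ := this
    exact ⟨s, hs.symm⟩
  have hs0 : s ≠ 0 := by rintro rfl; rw [mul_zero] at hs; exact hδ0 hs.symm
  obtain ⟨B, hB⟩ : ∃ B : Matrix.SpecialLinearGroup (Fin 2) F,
      (B : Matrix (Fin 2) (Fin 2) F) = s⁻¹ • (A : Matrix (Fin 2) (Fin 2) F) := by
    refine ⟨⟨s⁻¹ • (A : Matrix (Fin 2) (Fin 2) F), ?_⟩, rfl⟩
    rw [Matrix.det_smul, Fintype.card_fin, ← hδ, ← hs, sq]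
    field_simp
  have h3 : cj A = MulAut.conj B := by
    rw [← Cfsg.Agent.H999.HgSplitA.cj_sl]
    have h4 : cj (Matrix.SpecialLinearGroup.toGL B * A⁻¹) = 1 := by
      refine cj_eq_one_of_scalar (r := s⁻¹) ?_
      have h5 : ((Matrix.SpecialLinearGroup.toGL B * A⁻¹ : GL (Fin 2) F) : Matrix (Fin 2) (Fin 2) F) =
        (B : Matrix (Fin 2) (Fin 2) F) * ((A⁻¹ : GL (Fin 2) F) : Matrix (Fin 2) (Fin 2) F) := rfl
      rw [h5, hB, Matrix.smul_mul, ← Units.val_mul, mul_inv_cancel, Units.val_one, Matrix.scalar_apply,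
        Matrix.smul_one_eq_diagonal]
    rw [map_mul, map_inv, mul_inv_eq_one] at h4
    exact h4.symm
  have h4 : MulAut.conj (pr B) = lift (MulAut.conj B) := by
    apply MulEquiv.ext
    intro x
    obtain ⟨x, rfl⟩ := pr_surjective x
    rfl
  have hσ : σ ^ 3 = 1 := by
    rw [← Cfsg.Agent.Lib.FieldAutCard.card_ringAut (F := F) (p := 2) (f := 3) (by norm_num) (by rw [hF]; norm_num)]
    exact pow_card_eq_one'
  have h5 : MulAut.conj (pr B)⁻¹ * lift (cj A * fld σ) = lift (fld σ) := by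
    rw [map_inv, h4, h3, map_mul, inv_mul_cancel_left]
  set t : Matrix.SpecialLinearGroup (Fin 2) F :=
    Matrix.SpecialLinearGroup.transvection (show (0 : Fin 2) ≠ 1 by decide) 1 with ht
  have ht2 : t * t = 1 := by
    apply Subtype.ext
    rw [Matrix.SpecialLinearGroup.coe_mul]
    have h6 : (t : Matrix (Fin 2) (Fin 2) F) = !![1, 1; 0, 1] := by
      ext i j
      fin_cases i <;> fin_cases j <;> simp [ht, Matrix.SpecialLinearGroup.transvection, Matrix.transvection]
    rw [h6]
    ext i j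
    fin_cases i <;> fin_cases j <;> simp [Matrix.mul_apply, Fin.sum_univ_two, CharTwo.add_self_eq_zero]
  refine ⟨(pr B)⁻¹, pr t, ?_, ?_, ?_⟩
  · rw [h5, ← map_pow, ← map_pow, hσ, map_one, map_one]
  · rw [h5, lift_pr, ht, fld_transvection, map_one]
  · intro h6
    have h7 : pr t = 1 := by
      have h8 : pr t ^ 3 = pr (t * t) * pr t := by rw [map_mul, pow_succ, sq]
      rw [h8, ht2, map_one, one_mul] at h6
      exact h6
    rw [← map_one (pr : Matrix.SpecialLinearGroup (Fin 2) F →* _)] at h7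
    obtain ⟨c, hc⟩ := exists_smul_of_pr_eq h7.symm
    have h8 := congrFun (congrFun hc 0) 1
    simp [ht, Matrix.SpecialLinearGroup.transvection, Matrix.transvection] at h8

theorem miss (hF : Fintype.card F = 8) (M : Subgroup T2) (hM : M ≠ ⊤) : Miss T2 M := by
  have hc := card_mem hF M hM
  obtain ⟨x, hx⟩ := (spec hF 7).2 (by norm_num)
  obtain ⟨y, hy⟩ := (spec hF 3).2 (by norm_num)
  by_cases h7 : 7 ∣ Nat.card M
  · refine Miss.of_dvd (v := 3) (x := y) ?_ (by rw [hy])
    generalize Nat.card M = c at hc h7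
    fin_cases hc <;> omega
  · exact Miss.of_dvd (v := 7) (x := x) h7 (by rw [hx])

theorem fin3_aux (hF : Fintype.card F = 8) (R : Subgroup T2) {z : T2} {c : ℕ} (h7 : ¬ 7 ∣ Nat.card R)
    (hz : orderOf z = c) (hc : ¬ c ∣ Nat.card R) (h7c : ¬ 7 ∣ c) : ThreeT T2 R ∧ Two T2 R := by
  obtain ⟨x, hx⟩ := (spec hF 7).2 (by norm_num)
  have hx2 : orderOf (x ^ 2) = 7 := by
    rw [orderOf_pow, hx]; norm_num
  exact ⟨ThreeT.of_prime h7 (x := x) (y := x ^ 2) (by rw [hx]) (by rw [hx2]) (not_conj_sq hF hx) hz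
    (orderOf_ne_of_not_dvd hc) h7c, Two.of_prime h7 (x := x) (by rw [hx]) hz (orderOf_ne_of_not_dvd hc) h7c⟩

theorem noOne (hF : Fintype.card F = 8) (R : Subgroup T2) (hR : R ≠ ⊤) (h7 : ¬ 7 ∣ Nat.card R)
    (h18 : Nat.card R ≠ 18) : NoOne T2 R := by
  refine NoOne.of_prime Nat.prime_three (card_out hF) fun h => ?_
  have h1 := R.index_mul_card
  rw [card_T hF] at h1
  have h2 : R.index % 3 = 1 := h
  have hc := card_mem hF R hR
  generalize Nat.card R = c at *
  generalize R.index = i at *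
  fin_cases hc <;> omega

theorem fin3 (hF : Fintype.card F = 8) (R : Subgroup T2) (hR : R ≠ ⊤) (hRc : ¬ IsCoatom R) : Fin3 T2 R := by
  obtain ⟨M, hM, hRM⟩ := (eq_top_or_exists_le_coatom R).resolve_left hR
  have hlt : R < M := lt_of_le_of_ne hRM fun h => hRc (h ▸ hM)
  have hdvd : Nat.card R ∣ Nat.card M := Subgroup.card_dvd_of_le hRM
  have hne : Nat.card R ≠ Nat.card M := fun h => hlt.ne (Subgroup.eq_of_le_of_card_ge hRM h.ge)
  have hMc := card_mem hF M hM.1
  have hRcm := card_mem hF R hR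
  have hM28 : Nat.card M ≠ 28 := fun h => no_28 hF M h
  have hR28 : Nat.card R ≠ 28 := fun h => no_28 hF R h
  have hRM' : ¬ (Nat.card R = 14 ∧ Nat.card M = 56) := fun h => no_14_56 hF R M hRM h.1 h.2
  obtain ⟨x2, hx2⟩ := (spec hF 2).2 (by norm_num)
  obtain ⟨x3, hx3⟩ := (spec hF 3).2 (by norm_num)
  obtain ⟨x9, hx9⟩ := (spec hF 9).2 (by norm_num)
  by_cases h7 : 7 ∣ Nat.card R
  · have hR7 : Nat.card R = 7 := by
      clear hRc hlt
      generalize Nat.card R = c at *
      generalize Nat.card M = d at *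
      fin_cases hRcm <;> first | omega | (fin_cases hMc <;> omega)
    exact Or.inl (Three.of_not_dvd3 (a := 2) (b := 3) (c := 9) (by norm_num) (by norm_num) (by norm_num) ⟨x2, hx2⟩
      ⟨x3, hx3⟩ ⟨x9, hx9⟩ (by rw [hR7]; norm_num) (by rw [hR7]; norm_num) (by rw [hR7]; norm_num))
  right
  have hR18 : Nat.card R ≠ 18 := by
    clear hRc hlt
    generalize Nat.card R = c at *
    generalize Nat.card M = d at *
    rintro rfl
    fin_cases hMc <;> omega
  by_cases h2 : 2 ∣ Nat.card R
  · have h9 : ¬ 9 ∣ Nat.card R := by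
      generalize Nat.card R = c at *
      fin_cases hRcm <;> omega
    obtain ⟨a, b⟩ := fin3_aux hF R h7 hx9 h9 (by norm_num)
    exact ⟨a, b, Or.inl (noOne hF R hR h7 hR18)⟩
  · obtain ⟨a, b⟩ := fin3_aux hF R h7 hx2 h2 (by norm_num)
    exact ⟨a, b, Or.inl (noOne hF R hR h7 hR18)⟩

/-- **S3502-G78**, second part -/
theorem rowW_psl28 (hF : Fintype.card F = 8) : RowW T2 :=
  ⟨Or.inr ⟨cos hF, fun M hM => miss hF M hM.1⟩, fun R hR hR' => fin3 hF R hR hR'⟩

end Cfsg.Agent.H681.Der.Psl8
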