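import Cfsg.Agent.H439.Der.Three

/-!
# Tools for the small linear rows of S3502

* `OutBadN.of_three` : a subgroup `R` such that all intermediate subgroups `N` have `|N : R| = 3`, `R` not normal in `N`
* `ThreeT.of_prime` : two non-conjugate elements of order divisible by a missing `v` and a third missing element
* `NoOne.of_prime`
-/

set_option autoImplicit false

namespace Cfsg.Agent.H681.Der

open Subgroup Cfsg.Agent.H439.Der Cfsg.Agent.H938.Sax

variable {T : Type*} [Group T] {R : Subgroup T}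

theorem OutBadN.of_three [Finite T] (h : ∀ N : Subgroup T, R < N → N < ⊤ → Nat.card N = 3 * Nat.card R ∧
    ¬ ∀ n ∈ N, ∀ r ∈ R, n⁻¹ * r * n ∈ R) : OutBadN T R := by
  rintro φ - hR ⟨N, hRN, hNt, hN⟩
  obtain ⟨hc, hnn⟩ := h N hRN hNt
  by_contra hcon
  push Not at hcon
  have mR : ∀ x : T, φ x ∈ R ↔ x ∈ R := by
    intro x
    constructor
    · intro hx
      rw [← hR] at hx
      obtain ⟨y, hy, hyx⟩ := hx
      have : y = x := φ.injective hyx
      exact this ▸ hy
    · intro hx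
      rw [← hR]
      exact ⟨x, hx, rfl⟩
  have mN : ∀ x : T, φ x ∈ N ↔ x ∈ N := by
    intro x
    constructor
    · intro hx
      rw [← hN] at hx
      obtain ⟨y, hy, hyx⟩ := hx
      have : y = x := φ.injective hyx
      exact this ▸ hy
    · intro hx
      rw [← hN]
      exact ⟨x, hx, rfl⟩
  apply hnn
  intro s hs r hr
  by_cases hsR : s ∈ R
  · exact R.mul_mem (R.mul_mem (R.inv_mem hsR) hr) hsR
  obtain ⟨t, rfl⟩ := φ.surjective s
  have htR : t ∉ R := fun h1 => hsR ((mR t).2 h1)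
  have htN : t ∈ N := (mN t).1 hs
  have h1 : t⁻¹ * φ t ∉ R := by
    have := hcon 1 R.one_mem t htR
    simpa using this
  have h2 : t⁻¹ * (r * φ t) ∉ R := by
    intro h2
    apply hcon r hr t htR
    have h3 := R.mul_mem h2 (R.inv_mem hr)
    rwa [show t⁻¹ * (r * φ t) * r⁻¹ = t⁻¹ * (r * φ t * r⁻¹) by group] at h3
  by_contra h3
  have hcard : Nat.card (N ⧸ R.subgroupOf N) = 3 := by
    have h4 : (R.subgroupOf N).index * Nat.card R = 3 * Nat.card R := by
      rw [← hc]
      have h5 := (R.subgroupOf N).index_mul_card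
      have h6 : Nat.card (R.subgroupOf N) = Nat.card R := Nat.card_congr (Subgroup.subgroupOfEquivOfLe hRN.le).toEquiv
      rwa [h6] at h5
    exact Nat.eq_of_mul_eq_mul_right Nat.card_pos h4
  have hrs : r * φ t ∈ N := N.mul_mem (hRN.le hr) hs
  have key : ∀ a b : N, (a : N ⧸ R.subgroupOf N) = b ↔ (a : T)⁻¹ * b ∈ R := by
    intro a b
    rw [QuotientGroup.eq, mem_subgroupOf]
    rfl
  set e : N := 1 with he
  set t' : N := ⟨t, htN⟩
  set s' : N := ⟨φ t, hs⟩
  set u' : N := ⟨r * φ t, hrs⟩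
  have := Fintype.ofFinite (N ⧸ R.subgroupOf N)
  classical
  have h01 : (e : N ⧸ R.subgroupOf N) ≠ t' := by
    rw [Ne, key]
    simpa [e, t'] using htR
  have h02 : (e : N ⧸ R.subgroupOf N) ≠ s' := by
    rw [Ne, key]
    simpa [e, s'] using hsR
  have h03 : (e : N ⧸ R.subgroupOf N) ≠ u' := by
    rw [Ne, key]
    intro h4
    apply hsR
    have h5 : r * φ t ∈ R := by simpa [e, u'] using h4
    have h6 := R.mul_mem (R.inv_mem hr) h5
    rwa [inv_mul_cancel_left] at h6
  have h12 : (t' : N ⧸ R.subgroupOf N) ≠ s' := by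
    rw [Ne, key]
    exact h1
  have h13 : (t' : N ⧸ R.subgroupOf N) ≠ u' := by
    rw [Ne, key]
    exact h2
  have h23 : (s' : N ⧸ R.subgroupOf N) ≠ u' := by
    rw [Ne, key]
    intro h4
    apply h3
    have h5 : (φ t)⁻¹ * (r * φ t) ∈ R := h4
    rwa [← mul_assoc] at h5
  have h4 : ({(e : N ⧸ R.subgroupOf N), (t' : N ⧸ R.subgroupOf N), (s' : N ⧸ R.subgroupOf N),
      (u' : N ⧸ R.subgroupOf N)} : Finset (N ⧸ R.subgroupOf N)).card = 4 := by
    rw [Finset.card_insert_of_notMem, Finset.card_insert_of_notMem, Finset.card_insert_of_notMem, Finset.card_singleton]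
    · simpa using h23
    · simpa using ⟨h12, h13⟩
    · simpa using ⟨h01, h02, h03⟩
  have h5 := Finset.card_le_univ ({(e : N ⧸ R.subgroupOf N), (t' : N ⧸ R.subgroupOf N), (s' : N ⧸ R.subgroupOf N),
      (u' : N ⧸ R.subgroupOf N)} : Finset (N ⧸ R.subgroupOf N))
  rw [h4, ← Nat.card_eq_fintype_card, hcard] at h5
  omega

/-- elements whose order is divisible by a number not dividing `|M|` are missing -/
theorem not_mem_conj_of_dvd {v : ℕ} (hv : ¬ v ∣ Nat.card R) {x : T} (hx : v ∣ orderOf x) (g : T) :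
    g * x * g⁻¹ ∉ R := by
  have h1 := not_mem_of_dvd hv hx (MulAut.conj g)
  simpa using h1

theorem orderOf_conj (g x : T) : orderOf (g * x * g⁻¹) = orderOf x := by
  have := orderOf_mulEquiv (MulAut.conj g) x
  simpa using this

theorem ThreeT.of_prime {v c : ℕ} (hv : ¬ v ∣ Nat.card R) {x y z : T} (hx : v ∣ orderOf x) (hy : v ∣ orderOf y)
    (hxy : ∀ g : T, g * x * g⁻¹ ≠ y) (hz : orderOf z = c) (hc : ∀ m ∈ R, orderOf m ≠ c) (hvc : ¬ v ∣ c) :
    ThreeT T R := by
  refine ⟨x, y, z, not_mem_conj_of_dvd hv hx, not_mem_conj_of_dvd hv hy, fun g hg => hc _ hg ?_, hxy,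
    fun g hg => hvc ?_, fun g hg => hvc ?_⟩
  · rw [orderOf_conj, hz]
  · rw [← hz, ← hg, orderOf_conj]; exact hx
  · rw [← hz, ← hg, orderOf_conj]; exact hy

theorem Two.of_prime {v c : ℕ} (hv : ¬ v ∣ Nat.card R) {x z : T} (hx : v ∣ orderOf x)
    (hz : orderOf z = c) (hc : ∀ m ∈ R, orderOf m ≠ c) (hvc : ¬ v ∣ c) : Two T R := by
  refine ⟨x, z, not_mem_of_dvd hv hx, fun φ hφ => hc _ hφ ?_, fun φ hφ => hvc ?_⟩
  · rw [orderOf_mulEquiv, hz]
  · rw [← hz, ← hφ, orderOf_mulEquiv]; exact hx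

theorem Miss.of_dvd {v : ℕ} (hv : ¬ v ∣ Nat.card R) {x : T} (hx : v ∣ orderOf x) : Miss T R :=
  ⟨x, not_mem_of_dvd hv hx⟩

theorem NoOne.of_prime {s : ℕ} (hs : s.Prime) (ho : Nat.card (Cfsg.Out T) = s) (h : ¬ R.index ≡ 1 [MOD s]) :
    NoOne T R := by
  intro r hr hd
  rw [ho] at hd
  rwa [(Nat.prime_dvd_prime_iff_eq hr hs).1 hd]

/-- orders of elements of a subgroup -/
theorem orderOf_ne_of_not_dvd {c : ℕ} (h : ¬ c ∣ Nat.card R) : ∀ m ∈ R, orderOf m ≠ c := by
  rintro m hm rfl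
  apply h
  rw [← Subgroup.orderOf_mk m hm]
  exact orderOf_dvd_natCard _

theorem Three.of_not_dvd3 {a b c : ℕ} (hab : a ≠ b) (hac : a ≠ c) (hbc : b ≠ c) (ha : ∃ x : T, orderOf x = a)
    (hb : ∃ x : T, orderOf x = b) (hc : ∃ x : T, orderOf x = c) (h1 : ¬ a ∣ Nat.card R) (h2 : ¬ b ∣ Nat.card R)
    (h3 : ¬ c ∣ Nat.card R) : Three T R := by
  obtain ⟨x, hx⟩ := ha
  obtain ⟨y, hy⟩ := hb
  obtain ⟨z, hz⟩ := hc
  exact Three.of_orders hab hac hbc hx hy hz (orderOf_ne_of_not_dvd h1) (orderOf_ne_of_not_dvd h2)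
    (orderOf_ne_of_not_dvd h3)

theorem mul_conj (ψ : MulAut T) (x : T) : ψ * MulAut.conj x = MulAut.conj (ψ x) * ψ := by
  ext y
  simp [MulAut.conj_apply]

theorem mem_center_of_conj {t : T} (h : MulAut.conj t = 1) : t ∈ Subgroup.center T := by
  rw [Subgroup.mem_center_iff]
  intro y
  have h6 := DFunLike.congr_fun h y
  rw [MulAut.conj_apply, MulAut.one_apply, mul_inv_eq_iff_eq_mul] at h6
  exact h6.symm

/-- if every outer coset contains an involution -/
theorem Cos.of_sq (hZ : Subgroup.center T = ⊥) (hna : ∃ a b : T, a * b ≠ b * a)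
    (h : ∀ φ : MulAut T, ∃ l : T, (φ * MulAut.conj l) * (φ * MulAut.conj l) = 1) : Cos T := by
  intro φ hφ
  by_contra hcon
  push Not at hcon
  obtain ⟨l, hl⟩ := h φ
  rw [mul_conj] at hl
  have hψ1 : MulAut.conj (φ l) * φ ≠ 1 := by
    intro h1
    refine hφ (φ l)⁻¹ ?_
    rw [map_inv]
    exact (inv_eq_of_mul_eq_one_right h1).symm
  have hord : orderOf φ = 2 := by
    rw [← hcon (φ l)]
    exact orderOf_eq_prime (by rw [sq]; exact hl) hψ1
  have hall : ∀ t : T, φ t = t⁻¹ := by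
    intro t
    have h1 : (MulAut.conj t * φ) ^ 2 = 1 := orderOf_dvd_iff_pow_eq_one.1 (by rw [hcon t, hord])
    have h2 : φ ^ 2 = 1 := orderOf_dvd_iff_pow_eq_one.1 (by rw [hord])
    have h3 : MulAut.conj (t * φ t) = 1 := by
      rw [map_mul]
      have h4 : (MulAut.conj t * φ) ^ 2 = MulAut.conj t * (φ * MulAut.conj t) * φ := by
        rw [sq]; group
      rw [h4, mul_conj, mul_assoc, mul_assoc, ← sq, h2, mul_one] at h1
      exact h1
    have h5 := mem_center_of_conj h3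
    rw [hZ, mem_bot] at h5
    exact (inv_eq_of_mul_eq_one_right h5).symm
  obtain ⟨a, b, hab⟩ := hna
  apply hab
  have h1 : φ (a⁻¹ * b⁻¹) = b * a := by
    rw [hall]; group
  have h2 : φ (a⁻¹ * b⁻¹) = a * b := by
    rw [map_mul, hall, hall, inv_inv, inv_inv]
  rw [← h2, h1]

/-- if every outer coset contains an element of order `3` which fixes an element `u`, `u ^ 3 ≠ 1` -/
theorem Cos.of_cube (hZ : Subgroup.center T = ⊥) (h : ∀ φ : MulAut T, ∃ l u : T, (MulAut.conj l * φ) ^ 3 = 1 ∧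
      (MulAut.conj l * φ) u = u ∧ u ^ 3 ≠ 1) : Cos T := by
  intro φ hφ
  by_contra hcon
  push Not at hcon
  obtain ⟨l, u, h1, h2, h3⟩ := h φ
  have hψ1 : MulAut.conj l * φ ≠ 1 := by
    intro h1
    refine hφ l⁻¹ ?_
    rw [map_inv]
    exact (inv_eq_of_mul_eq_one_right h1).symm
  have : Fact (Nat.Prime 3) := ⟨by norm_num⟩
  have hord : orderOf φ = 3 := by
    rw [← hcon l]
    exact orderOf_eq_prime h1 hψ1
  have h4 : (MulAut.conj (u * l) * φ) ^ 3 = 1 := orderOf_dvd_iff_pow_eq_one.1 (by rw [hcon (u * l), hord])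
  apply h3
  have hcomm : Commute (MulAut.conj u) (MulAut.conj l * φ) := by
    show MulAut.conj u * (MulAut.conj l * φ) = (MulAut.conj l * φ) * MulAut.conj u
    rw [mul_conj, h2]
  rw [map_mul, mul_assoc, hcomm.mul_pow, h1, mul_one, ← map_pow] at h4
  have h5 := mem_center_of_conj h4
  rwa [hZ, mem_bot] at h5

/-- the centre of a nonabelian simple group -/
theorem center_eq_bot [IsSimpleGroup T] (hna : ∃ a b : T, a * b ≠ b * a) : Subgroup.center T = ⊥ := by
  rcases (inferInstance : (Subgroup.center T).Normal).eq_bot_or_eq_top with h | h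
  · exact h
  · obtain ⟨a, b, hab⟩ := hna
    have h1 : b ∈ Subgroup.center T := h ▸ mem_top b
    exact absurd (Subgroup.mem_center_iff.1 h1 a) hab

/-- `g` normalizes `zpowers x` if it maps `x` to a power and has finite order -/
theorem mem_normalizer_of_pow {g x : T} {k : ℕ} (hx : 0 < orderOf x) (h : g * x * g⁻¹ = x ^ k) :
    g ∈ normalizer (zpowers x : Set T) := by
  have hle : ∀ y ∈ zpowers x, g * y * g⁻¹ ∈ zpowers x := by
    rintro y ⟨i, rfl⟩
    show g * x ^ i * g⁻¹ ∈ zpowers x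
    rw [← conj_zpow, h]
    exact Subgroup.zpow_mem _ (Subgroup.npow_mem_zpowers x k) i
  have hmap : (zpowers x).map (MulAut.conj g).toMonoidHom ≤ zpowers x := by
    rintro _ ⟨y, hy, rfl⟩
    exact hle y hy
  have hfin : Finite (zpowers x) := finite_zpowers.2 (orderOf_pos_iff.1 hx)
  have heq : (zpowers x).map (MulAut.conj g).toMonoidHom = zpowers x := by
    apply Subgroup.eq_of_le_of_card_ge hmap
    rw [Nat.card_congr ((zpowers x).equivMapOfInjective _ (MulAut.conj g).injective).toEquiv.symm]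
  rw [mem_normalizer_iff]
  intro y
  constructor
  · exact hle y
  · intro hy
    have hy' : g * y * g⁻¹ ∈ zpowers x := hy
    rw [← heq] at hy'
    obtain ⟨z, hz, hzy⟩ := hy'
    have : z = y := (MulAut.conj g).injective (by simpa using hzy)
    exact this ▸ hz

end Cfsg.Agent.H681.Der
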